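import Groth.Agent.Lib.Nakai.Integral
import Groth.Agent.Lib.Snapper.Growth
import Groth.Agent.Lib.SchImage.Reduced
import Groth.Agent.Lib.AffDom.PointDim

/-!
# Ampleness from positivity of self-intersections
-/

set_option linter.style.haveILetI false

universe u

open CategoryTheory CategoryTheory.Limits AlgebraicGeometry TopologicalSpace

noncomputable section

namespace GrothLib.Nakai

open GrothLib.InvExt (mres)
open GrothLib.Ample (Cocycle)
open GrothLib.QCoh (stalkLin)
open GrothLib.Euler (tF)
open GrothLib.SerreVanish (EvAcyclic twistSeq_shortExact mtwistMap_comp twistTwist)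
open GrothLib.Snapper (DimLT IsTop phi mixed ptMod)

variable {X : Scheme.{u}} (c : Cocycle X) (k : Type u) [Field k] [X.Over (Spec (CommRingCat.of k))]
  [IsProper (X ↘ Spec (CommRingCat.of k))]

/-- The dimension of a cohomology of a twist. -/
abbrev hdim (M : X.Modules) (n i : ℕ) : ℕ := Module.finrank k (Coh.HH X (c.modTwist M n) i)

include k in
theorem hdim_eq_of_generic {A B : X.Modules} (f : A ⟶ B) (hK : EvAcyclic c (kernel f))
    (hQ : EvAcyclic c (cokernel f)) :
    ∃ n₀, ∀ n, n₀ ≤ n → ∀ i, hdim c k A n (i + 2) = hdim c k B n (i + 2) := by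
  obtain ⟨nK, hK⟩ := hK
  obtain ⟨nQ, hQ⟩ := hQ
  refine ⟨max nK nQ, fun n hn i => ?_⟩
  let g := c.mtwistMap f n
  have hbij : Function.Bijective (Cohom.hhMap k g (i + 2)) := by
    have hfac : g = c.mtwistMap (Abelian.factorThruImage f) n ≫ c.mtwistMap (Abelian.image.ι f) n := by
      rw [← mtwistMap_comp, Abelian.image.fac]
    have hS₁ := twistSeq_shortExact c n (Euler.kernelSeq_shortExact f)
    have hS₂ := twistSeq_shortExact c n (Euler.imageSeq_shortExact f)
    have k₁ : Subsingleton (Coh.HH X (c.modTwist (kernel f) n) (i + 2)) :=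
      hK n (le_trans (le_max_left _ _) hn) _ (by omega)
    have k₂ : Subsingleton (Coh.HH X (c.modTwist (kernel f) n) (i + 2 + 1)) :=
      hK n (le_trans (le_max_left _ _) hn) _ (by omega)
    have q₁ : Subsingleton (Coh.HH X (c.modTwist (cokernel f) n) (i + 1)) :=
      hQ n (le_trans (le_max_right _ _) hn) _ (by omega)
    have q₂ : Subsingleton (Coh.HH X (c.modTwist (cokernel f) n) (i + 2)) :=
      hQ n (le_trans (le_max_right _ _) hn) _ (by omega)
    have b₁ : Function.Bijective (Cohom.hhMap k (c.mtwistMap (Abelian.factorThruImage f) n) (i + 2)) := by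
      refine ⟨(injective_iff_map_eq_zero _).2 fun x hx => ?_, fun y => ?_⟩
      · obtain ⟨w, rfl⟩ := (Cohom.exact₂ (A := k) hS₁ (i + 2) x).1 hx
        rw [@Subsingleton.elim _ k₁ w 0, map_zero]
      · exact (Cohom.exact₃ (A := k) hS₁ (i + 2) y).1 (@Subsingleton.elim _ k₂ _ _)
    have b₂ : Function.Bijective (Cohom.hhMap k (c.mtwistMap (Abelian.image.ι f) n) (i + 2)) := by
      refine ⟨(injective_iff_map_eq_zero _).2 fun x hx => ?_, fun y => ?_⟩
      · obtain ⟨w, rfl⟩ := (Cohom.exact₁ (A := k) hS₂ (i + 1) x).1 hx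
        rw [@Subsingleton.elim _ q₁ w 0, map_zero]
      · exact (Cohom.exact₂ (A := k) hS₂ (i + 2) y).1 (@Subsingleton.elim _ q₂ _ _)
    rw [hfac, show ⇑(Cohom.hhMap k (c.mtwistMap (Abelian.factorThruImage f) n ≫
        c.mtwistMap (Abelian.image.ι f) n) (i + 2)) = _ ∘ _ from funext fun x => Euler.hhMap_comp _ _ _ _]
    exact b₂.comp b₁
  exact (LinearEquiv.ofBijective _ hbij).finrank_eq

include k in
/-- On an integral scheme with ample proper closed subschemes and positive self-intersection the
powers have unboundedly many sections. -/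
theorem exists_sections [IsIntegral X] {d : ℕ} (hd0 : 0 < d) (hd : DimLT (Set.univ : Set X) (d + 1))
    (hpos : 0 < mixed d (phi k d (fun _ => c.twist 1) (Coh.structureModule X)))
    (hproper : ∀ P : X.Modules, Coh.IsCoh P → genericPoint X ∉ CohB1.support P → EvAcyclic c P) :
    ∀ C : ℕ, ∃ m, 0 < m ∧ C < Module.finrank k (H0S c m) := by
  classical
  haveI := Euler.isNoetherian_of_proper (X := X) k
  let O := Coh.structureModule X
  have hO : Coh.IsCoh O := Euler.isCoh_of_isInvertible Euler.isInvertible_structure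
  let L := c.twist 1
  have hL : PicF.IsInvertible L := c.isInvertible_twist 1
  let B := c.modTwist O 1
  have hB : Coh.IsCoh B := Euler.isCoh_modTwist c hO 1
  obtain ⟨U, hηU, ⟨e⟩⟩ := hL (genericPoint X)
  let P := Scheme.Modules.restrictFunctorIsoPullback U.ι
  obtain ⟨q⟩ := c.nonempty_tensor_modTwist O 1
  let eBA : O.restrict U.ι ≅ B.restrict U.ι :=
    P.app O ≪≫ OX.pullUnitIso U.ι ≪≫ e.symm ≪≫
      (Scheme.Modules.restrictFunctor U.ι).mapIso ((OX.tensorUnitLeftIso L).symm ≪≫ q)
  obtain ⟨H, p, p', hH, hbij⟩ := Euler.exists_comparison hO hB U eBA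
  have hsmall : ∀ {N : X.Modules} (f : H ⟶ N), Coh.IsCoh N →
      (∀ y ∈ U, Function.Bijective (stalkLin f y)) → EvAcyclic c (kernel f) ∧ EvAcyclic c (cokernel f) :=
    fun f hN hb => ⟨hproper _ (QCoh.isCoh_kernel f hH hN)
        (QCoh.notMem_support_kernel_of_injective f (hb _ hηU).1),
      hproper _ (QCoh.isCoh_cokernel f hH hN) (QCoh.notMem_support_cokernel_of_surjective f (hb _ hηU).2)⟩
  obtain ⟨k1, q1⟩ := hsmall p hO fun y hy => (hbij y hy).1
  obtain ⟨k2, q2⟩ := hsmall p' hB fun y hy => (hbij y hy).2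
  obtain ⟨n₁, h₁⟩ := hdim_eq_of_generic c k p k1 q1
  obtain ⟨n₂, h₂⟩ := hdim_eq_of_generic c k p' k2 q2
  let n₀ := max n₁ n₂
  have hconst : ∀ n, n₀ ≤ n → ∀ i, hdim c k O n (i + 2) = hdim c k O n₀ (i + 2) := by
    intro n hn i
    induction n, hn using Nat.le_induction with
    | base => rfl
    | succ n hn ih =>
      rw [← ih, ← h₁ n (le_trans (le_max_left _ _) hn) i, h₂ n (le_trans (le_max_right _ _) hn) i]
      exact (Euler.hhEquiv (A := k) (asIso (twistTwist c O n (q := n + 1) (p := 1) rfl)) (i + 2)).finrank_eq.symm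
  obtain ⟨N, hN⟩ := Euler.exists_bound (X := X) k
  let D : ℕ := ∑ i ∈ Finset.range N, hdim c k O n₀ (i + 2)
  -- the Euler characteristic grows
  have hdO : DimLT (CohB1.support O) (d + 1) := hd.mono fun _ _ => trivial
  obtain ⟨a, ha⟩ := Snapper.exists_lead
    (Snapper.phi_mem_polyLT k (r := 1) (L := fun _ => L) (fun _ => hL) (d + 1) O hO hdO)
  rw [Snapper.phi_const_comp, Snapper.mixed_comp_sumArg ha] at hpos
  have ha0 : 0 < a := (mul_pos_iff_of_pos_right (by exact_mod_cast d.factorial_pos)).1 hpos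
  obtain ⟨K, hK⟩ := Snapper.exists_abs_le_of_mem ha
  intro C
  obtain ⟨b, hb⟩ := exists_nat_gt ((|K| * 2 ^ (d - 1) + (C + D : ℕ)) / a)
  let n := n₀ + b + 1
  refine ⟨n, by omega, ?_⟩
  have hchi : phi k 1 (fun _ => L) O (fun _ => n) = (Curv2.euler k X (c.modTwist O n) : ℚ) := by
    rw [Snapper.phi_const_eq, Fin.sum_univ_one]
    obtain ⟨d'⟩ := c.nonempty_tensorPow_iso (Iso.refl L) n
    obtain ⟨q'⟩ := c.nonempty_tensor_modTwist O n
    exact congrArg Int.cast (Euler.euler_of_iso k (((DCoh.tensorBi (X := X)).obj O).mapIso d' ≪≫ q'))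
  have hlow : (C : ℚ) + D < phi k 1 (fun _ => L) O (fun _ => n) := by
    have h := (abs_le.1 (hK n)).1
    simp only [Pi.sub_apply, Pi.smul_apply, smul_eq_mul, Snapper.mono, Fin.prod_univ_one] at h
    have hn1 : (1 : ℚ) ≤ n := by exact_mod_cast (show 1 ≤ n by omega)
    obtain ⟨e, rfl⟩ : ∃ e, d = e + 1 := ⟨d - 1, by omega⟩
    simp only [Nat.add_sub_cancel] at h hb
    have hp : ((n : ℚ) + 1) ^ e ≤ 2 ^ e * (n : ℚ) ^ e := by
      rw [← mul_pow]
      exact pow_le_pow_left₀ (by linarith) (by linarith) _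
    have hKp : K * ((n : ℚ) + 1) ^ e ≤ |K| * 2 ^ e * (n : ℚ) ^ e := by
      rw [mul_assoc]
      exact (mul_le_mul_of_nonneg_right (le_abs_self K) (by positivity)).trans
        (mul_le_mul_of_nonneg_left hp (abs_nonneg K))
    rw [div_lt_iff₀ ha0] at hb
    have hbn : (b : ℚ) ≤ n := by exact_mod_cast (show b ≤ n by omega)
    have hpe : (1 : ℚ) ≤ (n : ℚ) ^ e := one_le_pow₀ hn1
    push_cast at hb ⊢
    have h5 : (b : ℚ) * a ≤ n * a := mul_le_mul_of_nonneg_right hbn ha0.le
    have h6 : 0 < (n : ℚ) * a - |K| * 2 ^ e - C - D := by linarith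
    have hCD : (0 : ℚ) ≤ C + D := by positivity
    rw [pow_succ] at h
    nlinarith [mul_le_mul_of_nonneg_left hpe hCD, mul_pos h6 (lt_of_lt_of_le one_pos hpe)]
  rw [hchi] at hlow
  haveI := (Euler.isCoh_modTwist c hO n).1
  have hle : (Curv2.euler k X (c.modTwist O n) : ℚ) ≤ (hdim c k O n 0 : ℚ) + D := by
    rw [Euler.euler_eq_sum k (c.modTwist O n) (N := N + 2) (fun i hi => hN _ i (by omega)),
      Finset.sum_range_succ', Finset.sum_range_succ']
    push_cast
    simp only [pow_zero, pow_one, one_mul, D, Nat.cast_sum]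
    have hsum : (∑ i ∈ Finset.range N, ((-1 : ℚ) ^ (i + 1 + 1) * (hdim c k O n (i + 1 + 1) : ℚ))) ≤
        ∑ i ∈ Finset.range N, (hdim c k O n₀ (i + 2) : ℚ) := Finset.sum_le_sum fun i _ => by
      rw [show i + 1 + 1 = i + 2 from rfl, hconst n (by omega) i]
      exact (mul_le_mul_of_nonneg_right (le_abs_self _) (Nat.cast_nonneg _)).trans (by simp)
    have h1 : (0 : ℚ) ≤ hdim c k O n 1 := Nat.cast_nonneg _
    simp only [hdim] at hsum h1 ⊢
    linarith
  exact_mod_cast (show (C : ℚ) < Module.finrank k (H0S c n) by simp only [hdim] at hle; linarith)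

include k in
/-- A point module computes the intersection numbers of the pullback. -/
theorem phi_ptMod_eq {L : X.Modules} (hL : PicF.IsInvertible L) (d : ℕ) (x : X) :
    letI I := Scheme.IdealSheafData.vanishingIdeal (⟨closure ({x} : Set X), isClosed_closure⟩ : Closeds X)
    letI : I.subscheme.Over (Spec (CommRingCat.of k)) := ⟨I.subschemeι ≫ X ↘ Spec (CommRingCat.of k)⟩
    phi k d (fun _ => L) (ptMod x) =
      phi k d (fun _ => (Scheme.Modules.pullback I.subschemeι).obj L) (Coh.structureModule I.subscheme) := by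
  let I := Scheme.IdealSheafData.vanishingIdeal (⟨closure ({x} : Set X), isClosed_closure⟩ : Closeds X)
  letI : I.subscheme.Over (Spec (CommRingCat.of k)) := ⟨I.subschemeι ≫ X ↘ Spec (CommRingCat.of k)⟩
  funext n
  exact (Snapper.phi_push k I.subschemeι rfl (fun _ => hL) n).trans
    (congrArg Int.cast (Euler.euler_of_iso k (OX.tensorUnitLeftIso _).symm))

omit [X.Over (Spec (CommRingCat.of k))] [IsProper (X ↘ Spec (CommRingCat.of k))] in
/-- The reduced structure on the image of an integral closed subscheme is its kernel. -/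
theorem vanishingIdeal_eq_ker {Z : Scheme.{u}} (i : Z ⟶ X) [IsClosedImmersion i] [IsIntegral Z] :
    Scheme.IdealSheafData.vanishingIdeal (⟨closure ({i (genericPoint Z)} : Set X), isClosed_closure⟩ : Closeds X) =
      i.ker := by
  rw [SchImage.ker_eq_vanishingIdeal i]
  congr 1
  refine Closeds.ext ?_
  change closure ({i (genericPoint Z)} : Set X) = closure (Set.range i)
  rw [QCoh.closure_singleton_eq_range i, i.isClosedEmbedding.isClosed_range.closure_eq]

include k in
/-- Positivity of all self-intersections gives ampleness on every integral closed subscheme. -/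
theorem isAmple_of_pos {L : X.Modules} (hL : PicF.IsInvertible L)
    (hpos : ∀ (x : X) (d : ℕ), 0 < d → IsTop d x → 0 < mixed d (phi k d (fun _ => L) (ptMod x))) :
    CohB1.IsAmple L := by
  classical
  haveI := Euler.isNoetherian_of_proper (X := X) k
  refine isAmple_of_integral k hL fun Z i hi hZ => ?_
  suffices h : ∀ (T : Closeds X) (x : X), closure ({x} : Set X) = T →
      CohB1.IsAmple ((Scheme.Modules.pullback
        (Scheme.IdealSheafData.vanishingIdeal (⟨closure ({x} : Set X), isClosed_closure⟩ : Closeds X)).subschemeι).obj L) by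
    let x := i (genericPoint Z)
    have hker := vanishingIdeal_eq_ker i
    let ι := (Scheme.IdealSheafData.vanishingIdeal (⟨closure ({x} : Set X), isClosed_closure⟩ : Closeds X)).subschemeι
    have hle : ι.ker ≤ i.ker := by rw [Scheme.IdealSheafData.ker_subschemeι, hker]
    let g := IsClosedImmersion.lift ι i hle
    have hg : g ≫ ι = i := IsClosedImmersion.lift_fac ι i hle
    haveI : IsClosedImmersion (g ≫ ι) := hg ▸ hi
    haveI : IsClosedImmersion g := IsClosedImmersion.of_comp g ι
    have h' := Ample.isAmple_pullback_of_isAffineHom g (h ⟨_, isClosed_closure⟩ x rfl)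
    rw [Ample.isAmple_pullback_comp_iff, hg] at h'
    exact h'
  intro T
  induction T using WellFounded.induction (r := ((· < ·) : Closeds X → Closeds X → Prop)) wellFounded_lt with
  | _ T ih =>
  intro x hx
  let I := Scheme.IdealSheafData.vanishingIdeal (⟨closure ({x} : Set X), isClosed_closure⟩ : Closeds X)
  letI : I.subscheme.Over (Spec (CommRingCat.of k)) := ⟨I.subschemeι ≫ X ↘ Spec (CommRingCat.of k)⟩
  haveI : IsProper (I.subscheme ↘ Spec (CommRingCat.of k)) :=
    inferInstanceAs (IsProper (I.subschemeι ≫ X ↘ Spec (CommRingCat.of k)))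
  haveI : IsIntegral I.subscheme := Snapper.isIntegral_pt x
  haveI := Euler.isNoetherian_of_proper (X := I.subscheme) k
  let LZ := (Scheme.Modules.pullback I.subschemeι).obj L
  have hLZ : PicF.IsInvertible LZ := by
    obtain ⟨c, ⟨e⟩⟩ := Ample.exists_cocycle hL
    obtain ⟨d⟩ := c.nonempty_pullback_iso I.subschemeι e
    exact (c.comap I.subschemeι).isInvertible_of_iso d
  obtain ⟨d, hd⟩ := AffDom.exists_nat_ptDim (K := k) (X ↘ Spec (CommRingCat.of k)) x
  have htop : IsTop d x := hd
  have hdim : topologicalKrullDim (I.subscheme : Type u) = (d : WithBot ℕ∞) := by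
    refine (IsHomeomorph.topologicalKrullDim_eq _
      I.subschemeι.isClosedEmbedding.isEmbedding.toHomeomorph.isHomeomorph).trans ?_
    rw [Snapper.range_pt]
    exact htop
  rcases Nat.eq_zero_or_pos d with rfl | hd0
  · refine SerreVanish.isAmple_of_forall_vanish k hLZ fun M hM => ⟨0, fun n _ => ?_⟩
    have hu : topologicalKrullDim (Set.univ : Set I.subscheme) ≤ 0 :=
      (IsHomeomorph.topologicalKrullDim_eq _ (Homeomorph.Set.univ I.subscheme).isHomeomorph).le.trans
        (by rw [hdim]; exact le_of_eq Nat.cast_zero)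
    have hcl : ∀ y : I.subscheme, IsClosed ({y} : Set I.subscheme) := fun y =>
      Euler.isClosed_singleton_of_dim_le_zero isClosed_univ hu (x := y) trivial
    have hfin : (Set.univ : Set I.subscheme).Finite :=
      Euler.finite_of_closed_points isClosed_univ fun y _ => hcl y
    haveI := (Snapper.isCoh_twist k hLZ hM n).1
    exact Euler.subsingleton_HH_of_finite_support _ (hfin.subset (Set.subset_univ _)) (fun y _ => hcl y) 1 le_rfl
  obtain ⟨c, ⟨e⟩⟩ := Ample.exists_cocycle hLZ
  rw [c.isAmple_iff e]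
  refine ⟨inferInstance, ?_⟩
  have hproper : ∀ (W : Scheme.{u}) (j : W ⟶ I.subscheme), IsClosedImmersion j → IsIntegral W →
      genericPoint I.subscheme ∉ Set.range j → (c.comap j).IsAmp := by
    intro W j hj hW hη
    let y := I.subschemeι (j (genericPoint W))
    have hyT : closure ({y} : Set X) ⊆ (T : Set X) := by
      rw [← hx]
      refine isClosed_closure.closure_subset_iff.2 (Set.singleton_subset_iff.2 ?_)
      rw [← Snapper.range_pt x]
      exact ⟨_, rfl⟩
    have hy := ih ⟨_, isClosed_closure⟩ (lt_of_le_of_ne (fun z hz => hyT hz) fun h => hη ?_) y rfl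
    · let Iy := Scheme.IdealSheafData.vanishingIdeal (⟨closure ({y} : Set X), isClosed_closure⟩ : Closeds X)
      have hker : Iy.subschemeι.ker ≤ (j ≫ I.subschemeι).ker := by
        rw [Scheme.IdealSheafData.ker_subschemeι]
        exact (vanishingIdeal_eq_ker (j ≫ I.subschemeι)).le
      let g := IsClosedImmersion.lift Iy.subschemeι (j ≫ I.subschemeι) hker
      have hg : g ≫ Iy.subschemeι = j ≫ I.subschemeι := IsClosedImmersion.lift_fac _ _ hker
      haveI : IsClosedImmersion (g ≫ Iy.subschemeι) := hg ▸ inferInstance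
      haveI : IsClosedImmersion g := IsClosedImmersion.of_comp g Iy.subschemeι
      have h' := Ample.isAmple_pullback_of_isAffineHom g hy
      rw [Ample.isAmple_pullback_comp_iff, hg, ← Ample.isAmple_pullback_comp_iff] at h'
      obtain ⟨e'⟩ := c.nonempty_pullback_iso j e
      exact (((c.comap j).isAmple_iff e').1 h').2
    · have hxy : x ∈ closure ({y} : Set X) := by
        rw [show closure ({y} : Set X) = (T : Set X) from SetLike.ext'_iff.1 h, ← hx]
        exact subset_closure rfl
      have hyr : closure ({y} : Set X) ⊆ Set.range (j ≫ I.subschemeι) :=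
        (j ≫ I.subschemeι).isClosedEmbedding.isClosed_range.closure_subset_iff.2
          (Set.singleton_subset_iff.2 ⟨genericPoint W, rfl⟩)
      obtain ⟨w, hw⟩ := hyr hxy
      refine ⟨w, I.subschemeι.isClosedEmbedding.injective (hw.trans ?_)⟩
      have h1 := QCoh.closure_singleton_eq_range I.subschemeι
      rw [Snapper.range_pt] at h1
      exact ((Inseparable.eq (inseparable_iff_closure_eq.2 h1))).symm
  refine isAmp_of_sections c k hproper (exists_sections c k hd0 (Snapper.dimLT_of_dim_le
    ((IsHomeomorph.topologicalKrullDim_eq _ (Homeomorph.Set.univ I.subscheme).isHomeomorph).le.trans hdim.le)) ?_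
    fun P hP hη => evAcyclic_of_pieces c k hP fun W j hj hW hWP => hproper W j hj hW fun h => hη (hWP h))
  have h := hpos x d hd0 htop
  rw [phi_ptMod_eq k hL d x] at h
  refine lt_of_lt_of_eq h (congrArg _ ?_)
  funext n
  rw [Snapper.phi_const_eq, Snapper.phi_const_eq]
  obtain ⟨d₁⟩ := c.nonempty_tensorPow_iso e (∑ i, n i)
  obtain ⟨d₂⟩ := c.nonempty_tensorPow_iso (Iso.refl (c.twist 1)) (∑ i, n i)
  exact congrArg Int.cast (Euler.euler_of_iso k
    (((DCoh.tensorBi (X := I.subscheme)).obj _).mapIso (d₁ ≪≫ d₂.symm)))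

end GrothLib.Nakai
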