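import Groth.Agent.Lib.SerreVanish.Ample
import Groth.Agent.Lib.Ample.RelAmple
import Groth.Agent.Lib.QCoh.Filtration

/-!
# Vanishing and ampleness are detected on integral closed subschemes
-/

set_option linter.style.haveILetI false

universe u

open CategoryTheory CategoryTheory.Limits AlgebraicGeometry TopologicalSpace

noncomputable section

namespace GrothLib.Nakai

open GrothLib.Ample (Cocycle)
open GrothLib.SerreVanish (EvAcyclic twistSeq_shortExact mtwistMap_comp)

variable {X : Scheme.{u}} (c : Cocycle X)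

theorem mtwistMap_id (M : X.Modules) (n : ℕ) : c.mtwistMap (𝟙 M) n = 𝟙 (c.modTwist M n) :=
  Scheme.Modules.hom_ext _ _ fun V => by
    ext (b : c.msect M n V)
    rfl

/-- Twisting an isomorphism. -/
def twistIso {M N : X.Modules} (e : M ≅ N) (n : ℕ) : c.modTwist M n ≅ c.modTwist N n where
  hom := c.mtwistMap e.hom n
  inv := c.mtwistMap e.inv n
  hom_inv_id := by rw [← mtwistMap_comp, e.hom_inv_id, mtwistMap_id]
  inv_hom_id := by rw [← mtwistMap_comp, e.inv_hom_id, mtwistMap_id]

variable (A : Type u) [CommRing A] [X.Over (Spec (CommRingCat.of A))]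

include A in
theorem evAcyclic_of_iso {M N : X.Modules} (e : M ≅ N) (h : EvAcyclic c M) : EvAcyclic c N := by
  obtain ⟨n₀, h⟩ := h
  exact ⟨n₀, fun n hn i hi => by
    haveI := h n hn i hi
    exact (Euler.hhEquiv (A := A) (twistIso c e n) i).toEquiv.symm.subsingleton⟩

theorem isZero_modTwist {M : X.Modules} (h : IsZero M) (n : ℕ) : IsZero (c.modTwist M n) := by
  rw [IsZero.iff_id_eq_zero] at h ⊢
  rw [← mtwistMap_id, h, SerreVanish.mtwistMap_zero]

theorem evAcyclic_of_isZero {M : X.Modules} (h : IsZero M) : EvAcyclic c M :=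
  ⟨0, fun n _ i _ => Cohom.subsingleton_HH_of_isZero (isZero_modTwist c h n) i⟩

include A in
theorem evAcyclic_X₂ {S : ShortComplex X.Modules} (hS : S.ShortExact)
    (h₁ : EvAcyclic c S.X₁) (h₃ : EvAcyclic c S.X₃) : EvAcyclic c S.X₂ := by
  obtain ⟨n₁, h₁⟩ := h₁
  obtain ⟨n₃, h₃⟩ := h₃
  refine ⟨max n₁ n₃, fun n hn i hi => ?_⟩
  haveI := h₁ n (le_trans (le_max_left _ _) hn) i hi
  haveI := h₃ n (le_trans (le_max_right _ _) hn) i hi
  exact Euler.subsingleton_of_exact (Cohom.exact₂ (A := A) (twistSeq_shortExact c n hS) i)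

variable [IsNoetherianRing A] [IsProper (X ↘ Spec (CommRingCat.of A))]

include A in
/-- Serre vanishing for a coherent module when the cocycle is ample on every integral closed
subscheme of its support. -/
theorem evAcyclic_of_pieces {M : X.Modules} (hM : Coh.IsCoh M)
    (h : ∀ (Z : Scheme.{u}) (i : Z ⟶ X), IsClosedImmersion i → IsIntegral Z →
      Set.range i ⊆ CohB1.support M → (c.comap i).IsAmp) : EvAcyclic c M := by
  haveI := SerreVanish.isNoetherian_of_proper (X := X) A
  refine QCoh.coh_induction (EvAcyclic c) (fun M N ⟨e⟩ => evAcyclic_of_iso c A e)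
    (fun M => evAcyclic_of_isZero c) (fun S hS _ _ _ => evAcyclic_X₂ c A hS) M hM ?_
  intro Z i hi hZ N ι hι hN hN0 hsub
  letI : Z.Over (Spec (CommRingCat.of A)) := ⟨i ≫ X ↘ Spec (CommRingCat.of A)⟩
  haveI : IsProper (Z ↘ Spec (CommRingCat.of A)) :=
    inferInstanceAs (IsProper (i ≫ X ↘ Spec (CommRingCat.of A)))
  obtain ⟨n₀, hn₀⟩ := SerreVanish.evAcyclic (c.comap i) A
    (h Z i hi hZ ((QCoh.range_subset_support_push i N ι hN hN0).trans hsub)) hN
  refine ⟨n₀, fun n hn p hp => ?_⟩
  haveI := hn₀ n hn p hp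
  haveI := hN.1
  haveI := (c.comap i).isQuasicoherent_modTwist N n
  obtain ⟨e⟩ := Cohom.nonempty_HH_equiv_pushforward i ((c.comap i).modTwist N n) p
  obtain ⟨e'⟩ := c.nonempty_push_modTwist i N n
  haveI : Subsingleton (Coh.HH X ((Scheme.Modules.pushforward i).obj ((c.comap i).modTwist N n)) p) :=
    e.symm.toEquiv.subsingleton
  exact (Euler.hhEquiv (A := A) e' p).toEquiv.symm.subsingleton

include A in
/-- An invertible module which is ample on every integral closed subscheme is ample. -/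
theorem isAmple_of_integral {L : X.Modules} (hL : PicF.IsInvertible L)
    (h : ∀ (Z : Scheme.{u}) (i : Z ⟶ X), IsClosedImmersion i → IsIntegral Z →
      CohB1.IsAmple ((Scheme.Modules.pullback i).obj L)) : CohB1.IsAmple L := by
  haveI := SerreVanish.isNoetherian_of_proper (X := X) A
  obtain ⟨c, ⟨e⟩⟩ := Ample.exists_cocycle hL
  rw [c.isAmple_iff e]
  refine ⟨inferInstance, c.isAmp_of_subsingleton_H1 fun T => ?_⟩
  obtain ⟨n₀, hn₀⟩ := evAcyclic_of_pieces c A (SerreVanish.isCoh_vMod A T) fun Z i hi hZ _ => by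
    obtain ⟨d⟩ := c.nonempty_pullback_iso i e
    exact (((c.comap i).isAmple_iff d).1 (h Z i hi hZ)).2
  exact ⟨n₀, hn₀ (n₀ + 1) (Nat.le_succ _) 1 le_rfl⟩

end GrothLib.Nakai
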