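import Groth.Agent.Lib.Nakai.Restrict

/-!
# Ampleness on an integral scheme with many sections and ample proper closed subschemes
-/

set_option linter.style.haveILetI false

universe u

open CategoryTheory CategoryTheory.Limits AlgebraicGeometry TopologicalSpace Opposite

noncomputable section

namespace GrothLib.Nakai

open GrothLib.InvExt (mres)
open GrothLib.Ample (Cocycle res)
open GrothLib.QCoh (stalkLin)
open GrothLib.SerreVanish (EvAcyclic twistSeq_shortExact mtwistMap_comp twistTwist mtwistMap_mraise)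

variable {X : Scheme.{u}} (c : Cocycle X)

section Mul

variable {k : Type u} [Field k] [X.Over (Spec (CommRingCat.of k))]

/-- The sections of a twist as global classes. -/
abbrev H0S (m : ℕ) : Type _ := Coh.HH X (c.modTwist (Coh.structureModule X) m) 0

/-- The section underlying a global class. -/
def toS {m : ℕ} (v : H0S c m) : c.sect m ⊤ :=
  c.toSect (show c.msect (Coh.structureModule X) m ⊤ from ProjCoh.H0top _ v)

theorem toS_injective {m : ℕ} : Function.Injective (toS c (m := m)) := fun v w h => by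
  refine (ProjCoh.H0top _).injective ?_
  exact c.msect_ext fun i => congrArg (fun s : c.sect m ⊤ => s.1 i) h

theorem toS_add {m : ℕ} (v w : H0S c m) (i : c.ι) :
    (toS c (v + w)).1 i = (toS c v).1 i + (toS c w).1 i := by
  show (show c.msect (Coh.structureModule X) m ⊤ from ProjCoh.H0top _ (v + w)).1 i = _
  rw [map_add]
  rfl

theorem toS_smul {m : ℕ} (r : k) (v : H0S c m) (i : c.ι) :
    (toS c (r • v)).1 i =
      res le_top (Coh.toGlobal (X ↘ Spec (CommRingCat.of k)) r) * (toS c v).1 i := by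
  show (show c.msect (Coh.structureModule X) m ⊤ from ProjCoh.H0top _ (r • v)).1 i = _
  rw [ProjCoh.H0top_smul]
  rfl

/-- Multiplication by a section on first cohomology, linear in the section. -/
def mulLin (M : X.Modules) (n m : ℕ) : H0S c m →ₗ[k]
    (Coh.HH X (c.modTwist M n) 1 →ₗ[k] Coh.HH X (c.modTwist M (n + m * 1)) 1) where
  toFun v := Cohom.hhMap k (c.mraiseHom M (toS c v) n 1) 1
  map_add' v w := by
    have h : c.mraiseHom M (toS c (v + w)) n 1 =
        c.mraiseHom M (toS c v) n 1 + c.mraiseHom M (toS c w) n 1 :=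
      Scheme.Modules.hom_ext _ _ fun V => by
        ext (b : c.msect M n V)
        refine c.msect_ext fun i => ?_
        show res (inf_le_inf_right (c.D i) (le_top : V ≤ ⊤)) ((toS c (v + w)).1 i) ^ 1 • b.1 i =
          res (inf_le_inf_right (c.D i) (le_top : V ≤ ⊤)) ((toS c v).1 i) ^ 1 • b.1 i +
            res (inf_le_inf_right (c.D i) (le_top : V ≤ ⊤)) ((toS c w).1 i) ^ 1 • b.1 i
        rw [pow_one, pow_one, pow_one, toS_add, map_add, add_smul]
    refine LinearMap.ext fun x => ?_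
    show Cohom.hhMap k _ 1 x = Cohom.hhMap k _ 1 x + Cohom.hhMap k _ 1 x
    rw [h, Cohom.hhMap_apply, Cohom.hhMap_apply, Cohom.hhMap_apply, Functor.map_add, Cohom.H_map_eq_comp,
      Cohom.H_map_eq_comp, Cohom.H_map_eq_comp, Abelian.Ext.mk₀_add, Abelian.Ext.comp_add]
  map_smul' r v := by
    have h : (QCoh.toAbFun X).map (c.mraiseHom M (toS c (r • v)) n 1) =
        (QCoh.toAbFun X).map (c.mraiseHom M (toS c v) n 1) ≫
          Coh.smulAb _ (Coh.toGlobal (X ↘ Spec (CommRingCat.of k)) r) := by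
      ext V (b : c.msect M n V.unop)
      refine c.msect_ext fun i => ?_
      show res (inf_le_inf_right (c.D i) (le_top : V.unop ≤ ⊤)) ((toS c (r • v)).1 i) ^ 1 • b.1 i =
        res (inf_le_left : V.unop ⊓ c.D i ≤ V.unop) (res (le_top : V.unop ≤ ⊤)
          (Coh.toGlobal (X ↘ Spec (CommRingCat.of k)) r)) •
            res (inf_le_inf_right (c.D i) (le_top : V.unop ≤ ⊤)) ((toS c v).1 i) ^ 1 • b.1 i
      rw [pow_one, pow_one, toS_smul, map_mul, smul_smul, Ample.res_res, Ample.res_res]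
    refine LinearMap.ext fun x => ?_
    show Sheaf.H.map ((QCoh.toAbFun X).map (c.mraiseHom M (toS c (r • v)) n 1)) 1 x = _
    rw [h, Sheaf.H.map_comp_apply]
    rfl

theorem mulLin_apply (M : X.Modules) (n m : ℕ) (v : H0S c m) :
    mulLin c M n m v = Cohom.hhMap k (c.mraiseHom M (toS c v) n 1) 1 := rfl

end Mul

variable (A : Type u) [CommRing A] [X.Over (Spec (CommRingCat.of A))]

theorem eqToHom_msect {M : X.Modules} {p q : ℕ} (e : p = q) {V : X.Opens} (t : c.msect M p V) :
    (show c.msect M q V from (eqToHom (congrArg (c.modTwist M) e)).app V t) = c.msectCast e t := by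
  subst e
  exact c.msect_ext fun _ => rfl

theorem mraiseHom_comm (M : X.Modules) {m l : ℕ} (s : c.sect m ⊤) (t : c.sect l ⊤) (n N : ℕ)
    (e : n + l * N + m * 1 = n + m * 1 + l * N) :
    c.mraiseHom M t n N ≫ c.mraiseHom M s (n + l * N) 1 ≫ eqToHom (congrArg (c.modTwist M) e) =
      c.mraiseHom M s n 1 ≫ c.mraiseHom M t (n + m * 1) N := by
  refine Scheme.Modules.hom_ext _ _ fun V => ?_
  ext (b : c.msect M n V)
  refine Eq.trans (eqToHom_msect c e (c.mraise s (c.mraise t b N) 1)) ?_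
  refine c.msect_ext fun i => ?_
  show res (inf_le_inf_right (c.D i) (le_top : V ≤ ⊤)) (s.1 i) ^ 1 •
      res (inf_le_inf_right (c.D i) (le_top : V ≤ ⊤)) (t.1 i) ^ N • b.1 i =
    res (inf_le_inf_right (c.D i) (le_top : V ≤ ⊤)) (t.1 i) ^ N •
      res (inf_le_inf_right (c.D i) (le_top : V ≤ ⊤)) (s.1 i) ^ 1 • b.1 i
  rw [smul_comm]

theorem eq_zero_of_locus_eq_bot [IsReduced X] {m : ℕ} (s : c.sect m ⊤) (h : c.locus s = ⊥) (i : c.ι) :
    s.1 i = 0 := by
  rw [← basicOpen_eq_bot_iff]
  have := c.locus_inf_D s i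
  rw [h, bot_inf_eq] at this
  exact this.symm

variable [IsNoetherianRing A] [IsProper (X ↘ Spec (CommRingCat.of A))]

include A in
theorem exists_surjective_hhMap {M : X.Modules} (hM : Coh.IsCoh M) {m : ℕ} (s : c.sect m ⊤)
    (hsmall : ∀ P : X.Modules, Coh.IsCoh P → CohB1.support P ⊆ (c.locus s : Set X)ᶜ → EvAcyclic c P) :
    ∃ n₁, ∀ n, n₁ ≤ n → ∀ N, Function.Surjective (Cohom.hhMap A (c.mraiseHom M s n N) 1) := by
  haveI := SerreVanish.isNoetherian_of_proper (X := X) A
  let μ := c.mraiseHom M s 0 1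
  have h0 := Euler.isCoh_modTwist c hM 0
  have h1 := Euler.isCoh_modTwist c hM (0 + m * 1)
  have hbij : ∀ y ∈ c.locus s, Function.Bijective (stalkLin μ y) :=
    fun y hy => Euler.bijective_stalk_mraiseHom c s M 0 1 hy
  obtain ⟨nK, hnK⟩ := hsmall (kernel μ) (QCoh.isCoh_kernel μ h0 h1)
    fun y hy hys => QCoh.notMem_support_kernel_of_injective μ (hbij y hys).1 hy
  obtain ⟨nQ, hnQ⟩ := hsmall (cokernel μ) (QCoh.isCoh_cokernel μ h0 h1)
    fun y hy hys => QCoh.notMem_support_cokernel_of_surjective μ (hbij y hys).2 hy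
  have hstep : ∀ n, max nK nQ ≤ n → Function.Surjective (Cohom.hhMap A (c.mraiseHom M s n 1) 1) := by
    intro n hn y
    have hsq := mtwistMap_mraise c M n s 1
    obtain ⟨y', rfl⟩ := SerreVanish.surjective_hhMap_of_isIso A
      (twistTwist c M n (q := n + m * 1) (p := 0 + m * 1) (by omega)) 1 y
    have s₂ : Subsingleton (Coh.HH X (c.modTwist (cokernel μ) n) 1) :=
      hnQ n (le_trans (le_max_right _ _) hn) 1 le_rfl
    have s₁ : Subsingleton (Coh.HH X (c.modTwist (kernel μ) n) 2) :=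
      hnK n (le_trans (le_max_left _ _) hn) 2 (by omega)
    obtain ⟨z, hz⟩ := (Cohom.exact₂ (A := A) (twistSeq_shortExact c n (Euler.imageSeq_shortExact μ)) 1 y').1
      (@Subsingleton.elim _ s₂ _ _)
    obtain ⟨w, hw⟩ := (Cohom.exact₃ (A := A) (twistSeq_shortExact c n (Euler.kernelSeq_shortExact μ)) 1 z).1
      (@Subsingleton.elim _ s₁ _ _)
    refine ⟨Cohom.hhMap A (twistTwist c M n (q := n) (p := 0) (by omega)) 1 w, ?_⟩
    rw [← Euler.hhMap_comp, ← hsq, Euler.hhMap_comp]
    congr 1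
    rw [show c.mtwistMap (c.mraiseHom M s 0 1) n =
      c.mtwistMap (Abelian.factorThruImage μ) n ≫ c.mtwistMap (Abelian.image.ι μ) n by
        rw [← mtwistMap_comp, Abelian.image.fac], Euler.hhMap_comp]
    exact (congrArg _ hw).trans hz
  refine ⟨max nK nQ, fun n hn N => ?_⟩
  induction N with
  | zero =>
    refine fun y => ⟨y, ?_⟩
    have : c.mraiseHom M s n 0 = 𝟙 (c.modTwist M n) := Scheme.Modules.hom_ext _ _ fun V => by
      ext (b : c.msect M n V)
      refine c.msect_ext fun i => ?_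
      change res _ (s.1 i) ^ 0 • b.1 i = b.1 i
      rw [pow_zero, one_smul]
    rw [this]
    exact SerreVanish.hhMap_id A 1 y
  | succ N ihN =>
    rw [c.mraiseHom_eq_comp M s n N 1]
    intro y
    obtain ⟨y₁, rfl⟩ := SerreVanish.surjective_hhMap_of_isIso A
      (eqToHom (show c.modTwist M (n + m * N + m * 1) = c.modTwist M (n + m * (N + 1)) by
        rw [mul_add, add_assoc])) 1 y
    obtain ⟨y₂, rfl⟩ := hstep (n + m * N) (le_trans hn (Nat.le_add_right _ _)) y₁
    obtain ⟨y₃, rfl⟩ := ihN y₂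
    exact ⟨y₃, by rw [Euler.hhMap_comp, Euler.hhMap_comp]⟩

omit [X.Over (Spec (CommRingCat.of A))] [IsProper (X ↘ Spec (CommRingCat.of A))] [IsNoetherianRing A] in
theorem exists_toS_ne_zero {m : ℕ}
    (v : H0S c m) (hv : v ≠ 0) : ∃ i, (toS c v).1 i ≠ 0 := by
  by_contra h
  push Not at h
  refine hv (toS_injective c (c.sect_ext fun i => ?_))
  rw [h i]
  refine Eq.symm ?_
  show (show c.msect (Coh.structureModule X) m ⊤ from ProjCoh.H0top _ (0 : H0S c m)).1 i = 0
  rw [map_zero]
  rfl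

variable (k : Type u) [Field k] [X.Over (Spec (CommRingCat.of k))] [IsProper (X ↘ Spec (CommRingCat.of k))]

omit [X.Over (Spec (CommRingCat.of A))] [IsProper (X ↘ Spec (CommRingCat.of A))] [IsNoetherianRing A] in
include k in
/-- On an integral proper scheme, ampleness on the proper closed integral subschemes and unboundedly
many sections give the eventual vanishing of first cohomology. -/
theorem eventually_H1_zero [IsIntegral X]
    (hproper : ∀ P : X.Modules, Coh.IsCoh P → genericPoint X ∉ CohB1.support P → EvAcyclic c P)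
    (hsec : ∀ C : ℕ, ∃ m, 0 < m ∧ C < Module.finrank k (H0S c m))
    {M : X.Modules} (hM : Coh.IsCoh M) :
    ∃ n₀, ∀ n, n₀ ≤ n → Subsingleton (Coh.HH X (c.modTwist M n) 1) := by
  classical
  haveI := Euler.isNoetherian_of_proper (X := X) k
  have hne : ∀ {m : ℕ} (v : H0S c m), v ≠ 0 → ∃ n₁, ∀ n, n₁ ≤ n → ∀ N,
      Function.Surjective (Cohom.hhMap k (c.mraiseHom M (toS c v) n N) 1) := by
    intro m v hv
    refine exists_surjective_hhMap c k hM (toS c v) fun P hP hPs => hproper P hP fun hη => hPs hη ?_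
    obtain ⟨i, hi⟩ := exists_toS_ne_zero c v hv
    by_contra hηs
    refine hi (eq_zero_of_locus_eq_bot c _ ?_ i)
    exact Opens.ext (Set.eq_empty_of_forall_notMem fun x hx => hηs
      ((genericPoint_specializes x).mem_open (c.locus _).2 hx))
  obtain ⟨l, hl, hl'⟩ := hsec 0
  haveI : Nontrivial (H0S c l) := Module.nontrivial_of_finrank_pos (R := k) hl'
  obtain ⟨t, ht⟩ := exists_ne (0 : H0S c l)
  obtain ⟨n₁, hn₁⟩ := hne t ht
  haveI hfd : ∀ n, FiniteDimensional k (Coh.HH X (c.modTwist M n) 1) := fun n =>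
    Euler.finiteDimensional_HH k (Euler.isCoh_modTwist c hM n) 1
  let f : ℕ → ℕ := fun n => Module.finrank k (Coh.HH X (c.modTwist M n) 1)
  let C := (Finset.range l).sup fun r => f (n₁ + r)
  have hf : ∀ n, n₁ ≤ n → f n ≤ C := by
    intro n hn
    obtain ⟨r, N, hr, rfl⟩ : ∃ r N, r < l ∧ n = n₁ + r + l * N :=
      ⟨(n - n₁) % l, (n - n₁) / l, Nat.mod_lt _ hl, by rw [add_assoc, Nat.mod_add_div]; omega⟩
    exact (LinearMap.finrank_le_finrank_of_surjective (hn₁ (n₁ + r) (Nat.le_add_right _ _) N)).trans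
      (Finset.le_sup (f := fun r => f (n₁ + r)) (Finset.mem_range.2 hr))
  obtain ⟨m, hm, hmC⟩ := hsec (C * C)
  haveI hfdV : FiniteDimensional k (H0S c m) := Module.finite_of_finrank_pos (lt_of_le_of_lt (Nat.zero_le _) hmC)
  have hres : ∀ r, ∃ Q, ∀ N, Q ≤ N → Subsingleton (Coh.HH X (c.modTwist M (n₁ + r + m * 1 + l * N)) 1) := by
    intro r
    let Φ := mulLin (k := k) c M (n₁ + r) m
    obtain ⟨v, hv, hv0⟩ : ∃ v, Φ v = 0 ∧ v ≠ 0 := by
      by_contra h
      push Not at h
      have hinj : Function.Injective Φ := (injective_iff_map_eq_zero Φ).2 h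
      have := LinearMap.finrank_le_finrank_of_injective hinj
      rw [Module.finrank_linearMap] at this
      have h1 := hf (n₁ + r) (Nat.le_add_right _ _)
      have h2 := hf (n₁ + r + m * 1) (le_trans (Nat.le_add_right _ _) (Nat.le_add_right _ _))
      have := this.trans (Nat.mul_le_mul h1 h2)
      omega
    obtain ⟨nv, hnv⟩ := hne v hv0
    refine ⟨nv, fun N hN => subsingleton_of_forall_eq 0 fun y => ?_⟩
    obtain ⟨y₁, rfl⟩ := SerreVanish.surjective_hhMap_of_isIso k
      (eqToHom (congrArg (c.modTwist M)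
        (show n₁ + r + l * N + m * 1 = n₁ + r + m * 1 + l * N by omega))) 1 y
    have hle : nv ≤ n₁ + r + l * N := by nlinarith
    obtain ⟨y₂, rfl⟩ := hnv _ hle 1 y₁
    obtain ⟨y₃, rfl⟩ := hn₁ (n₁ + r) (Nat.le_add_right _ _) N y₂
    rw [← Euler.hhMap_comp, ← Euler.hhMap_comp, mraiseHom_comm c M (toS c v) (toS c t) (n₁ + r) N (by omega),
      Euler.hhMap_comp, ← mulLin_apply c M (n₁ + r) m v]
    change Cohom.hhMap k _ 1 (Φ v y₃) = 0
    rw [hv]
    exact map_zero _
  choose Q hQ using hres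
  refine ⟨n₁ + m + l * ((Finset.range l).sup Q + 1), fun n hn => ?_⟩
  obtain ⟨r, N, hr, hN, rfl⟩ : ∃ r N, r < l ∧ (Finset.range l).sup Q ≤ N ∧ n = n₁ + r + m * 1 + l * N := by
    refine ⟨(n - n₁ - m) % l, (n - n₁ - m) / l, Nat.mod_lt _ hl, ?_, ?_⟩
    · rw [Nat.le_div_iff_mul_le hl, mul_comm]
      rw [mul_add, mul_one] at hn
      omega
    · have := Nat.mod_add_div (n - n₁ - m) l
      rw [mul_add] at hn
      omega
  exact hQ r N ((Finset.le_sup (Finset.mem_range.2 hr)).trans hN)

omit [X.Over (Spec (CommRingCat.of A))] [IsProper (X ↘ Spec (CommRingCat.of A))] [IsNoetherianRing A] in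
include k in
/-- An invertible module on an integral proper scheme with unboundedly many sections of its powers
which is ample on the proper closed integral subschemes is ample. -/
theorem isAmp_of_sections [IsIntegral X]
    (hsub : ∀ (Z : Scheme.{u}) (i : Z ⟶ X), IsClosedImmersion i → IsIntegral Z →
      genericPoint X ∉ Set.range i → (c.comap i).IsAmp)
    (hsec : ∀ C : ℕ, ∃ m, 0 < m ∧ C < Module.finrank k (H0S c m)) : c.IsAmp := by
  haveI := Euler.isNoetherian_of_proper (X := X) k
  refine c.isAmp_of_subsingleton_H1 fun T => ?_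
  obtain ⟨n₀, hn₀⟩ := eventually_H1_zero c k (fun P hP hη => evAcyclic_of_pieces c k hP
      fun Z i hi hZ hZP => hsub Z i hi hZ fun h => hη (hZP h))
    hsec (SerreVanish.isCoh_vMod k T)
  exact ⟨n₀, hn₀ (n₀ + 1) (Nat.le_succ _)⟩

end GrothLib.Nakai
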